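import Mathlib

/-!
# Graded-free equivariant bundles on affine space: polynomial lemmas and homogeneous components
-/

set_option autoImplicit false
set_option linter.unusedSectionVars false
set_option linter.unusedVariables false
set_option linter.style.haveILetI false
set_option maxHeartbeats 400000

noncomputable section

namespace Groth.Agent.Lib.Helper6.GrFree

open MvPolynomial

universe u v

section McCoy

variable {σ : Type*} {R : Type*} [CommRing R]

/-- If `a * c = 0` then a power of the constant coefficient of `a` kills `c`. -/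
theorem pow_constantCoeff_mul_eq_zero (a c : MvPolynomial σ R) (h : a * c = 0) :
    C (constantCoeff a) ^ (c.totalDegree + 1) * c = 0 := by
  classical
  set ρ := constantCoeff a with hρ
  have hρ0 : coeff 0 a = ρ := by rw [hρ, constantCoeff_eq]
  have key : ∀ k : ℕ, ∀ s : σ →₀ ℕ, Finsupp.degree s = k → ρ ^ (k + 1) * coeff s c = 0 := by
    intro k
    induction k using Nat.strong_induction_on with
    | _ k ih =>
      intro s hs
      have h1 : coeff s (a * c) = 0 := by rw [h]; simp
      rw [coeff_mul] at h1
      have hmem : ((0 : σ →₀ ℕ), s) ∈ Finset.HasAntidiagonal.antidiagonal s := by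
        rw [Finset.HasAntidiagonal.mem_antidiagonal, zero_add]
      rw [← Finset.add_sum_erase _ _ hmem] at h1
      have h2 : ρ ^ k * ∑ x ∈ (Finset.HasAntidiagonal.antidiagonal s).erase (0, s), coeff x.1 a * coeff x.2 c = 0 := by
        rw [Finset.mul_sum]
        apply Finset.sum_eq_zero
        intro x hx
        rw [Finset.mem_erase, Finset.HasAntidiagonal.mem_antidiagonal] at hx
        obtain ⟨hne, hsum⟩ := hx
        have hx1 : x.1 ≠ 0 := by
          intro h0
          apply hne
          refine Prod.ext h0 ?_
          rw [h0, zero_add] at hsum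
          exact hsum
        have hd1 : 0 < Finsupp.degree x.1 := by
          rcases Nat.eq_zero_or_pos (Finsupp.degree x.1) with h0 | h0
          · exact absurd ((Finsupp.degree_eq_zero_iff _).mp h0) hx1
          · exact h0
        have hdeg : Finsupp.degree x.2 < k := by
          have := congrArg Finsupp.degree hsum
          rw [map_add, hs] at this
          omega
        have h3 := ih _ hdeg x.2 rfl
        have h4 : ρ ^ k = ρ ^ (k - (Finsupp.degree x.2 + 1)) * ρ ^ (Finsupp.degree x.2 + 1) := by
          rw [← pow_add]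
          congr 1
          omega
        rw [h4]
        calc ρ ^ (k - (Finsupp.degree x.2 + 1)) * ρ ^ (Finsupp.degree x.2 + 1) *
              (coeff x.1 a * coeff x.2 c)
            = ρ ^ (k - (Finsupp.degree x.2 + 1)) * coeff x.1 a *
              (ρ ^ (Finsupp.degree x.2 + 1) * coeff x.2 c) := by ring
          _ = 0 := by rw [h3, mul_zero]
      have h3 : ρ ^ k * (coeff 0 a * coeff s c +
          ∑ x ∈ (Finset.HasAntidiagonal.antidiagonal s).erase (0, s), coeff x.1 a * coeff x.2 c) = 0 := by
        rw [h1, mul_zero]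
      rw [mul_add, h2, add_zero, hρ0] at h3
      rw [pow_succ, mul_assoc]
      exact h3
  ext s
  rw [← map_pow, coeff_C_mul, coeff_zero]
  by_cases hs : s ∈ c.support
  · have hle : Finsupp.degree s ≤ c.totalDegree := le_totalDegree hs
    have h1 := key _ s rfl
    have h4 : ρ ^ (c.totalDegree + 1) =
        ρ ^ (c.totalDegree - Finsupp.degree s) * ρ ^ (Finsupp.degree s + 1) := by
      rw [← pow_add]
      congr 1
      omega
    rw [h4, mul_assoc, h1, mul_zero]
  · rw [notMem_support_iff.mp hs, mul_zero]

end McCoy

section Weight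

variable (n : ℕ)

/-- the weights `e_i` -/
abbrev wt : Fin n → (Fin n → ℤ) := fun i => (Pi.single i 1 : Fin n → ℤ)

lemma weight_wt (s : Fin n →₀ ℕ) : Finsupp.weight (wt n) s = fun j => (s j : ℤ) := by
  classical
  ext j
  rw [Finsupp.weight_apply, Finsupp.sum, Finset.sum_apply]
  simp only [Pi.smul_apply, Pi.single_apply, nsmul_eq_mul, mul_ite, mul_one, mul_zero]
  rw [Finset.sum_ite_eq]
  split_ifs with hj
  · rfl
  · rw [Finsupp.notMem_support_iff.mp hj]
    rfl

lemma weight_wt_eq_zero_iff (s : Fin n →₀ ℕ) : Finsupp.weight (wt n) s = 0 ↔ s = 0 := by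
  rw [weight_wt]
  constructor
  · intro h
    ext j
    have := congrFun h j
    simpa using this
  · rintro rfl
    ext j
    simp

end Weight

section Components

variable {R : Type u} [CommRing R] (n : ℕ)
  {P : Type v} [AddCommGroup P] [Module (MvPolynomial (Fin n) R) P] [Module R P]
  [IsScalarTower R (MvPolynomial (Fin n) R) P]
  (ℳ : (Fin n → ℤ) → Submodule R P) [DirectSum.Decomposition ℳ]
  [SetLike.GradedSMul (MvPolynomial.weightedHomogeneousSubmodule R (wt n)) ℳ]

/-- the homogeneous component of degree `d`, as an additive map -/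
def projAdd (d : Fin n → ℤ) : P →+ P :=
  (AddSubmonoidClass.subtype (ℳ d)).comp
    ((DFinsupp.evalAddMonoidHom d).comp (DirectSum.decomposeAddEquiv ℳ).toAddMonoidHom)

lemma projAdd_apply (d : Fin n → ℤ) (q : P) :
    projAdd n ℳ d q = ((DirectSum.decompose ℳ q) d : P) := rfl

lemma projAdd_of_mem {d e : Fin n → ℤ} {q : P} (hq : q ∈ ℳ e) :
    projAdd n ℳ d q = if e = d then q else 0 := by
  classical
  rw [projAdd_apply]
  split_ifs with h
  · subst h
    exact DirectSum.decompose_of_mem_same ℳ hq
  · exact DirectSum.decompose_of_mem_ne ℳ hq h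

lemma monomial_smul_mem {e : Fin n → ℤ} {y : P} (hy : y ∈ ℳ e) (s : Fin n →₀ ℕ) (c : R) :
    (monomial s c : MvPolynomial (Fin n) R) • y ∈ ℳ (Finsupp.weight (wt n) s + e) := by
  have h1 : (monomial s c : MvPolynomial (Fin n) R) ∈
      weightedHomogeneousSubmodule R (wt n) (Finsupp.weight (wt n) s) := by
    rw [mem_weightedHomogeneousSubmodule]
    exact isWeightedHomogeneous_monomial _ _ _ rfl
  have h2 := SetLike.GradedSMul.smul_mem (A := weightedHomogeneousSubmodule R (wt n)) (B := ℳ) h1 hy
  rwa [vadd_eq_add] at h2

/-- components of `a • y` for homogeneous `y` -/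
lemma projAdd_smul {e : Fin n → ℤ} {y : P} (hy : y ∈ ℳ e) (a : MvPolynomial (Fin n) R)
    (d : Fin n → ℤ) :
    ∃ b : MvPolynomial (Fin n) R, projAdd n ℳ d (a • y) = b • y ∧
      (e = d → b = C (constantCoeff a)) := by
  classical
  refine ⟨∑ s ∈ a.support.filter (fun s => Finsupp.weight (wt n) s + e = d),
    monomial s (coeff s a), ?_, ?_⟩
  · conv_lhs => rw [as_sum a, Finset.sum_smul, map_sum]
    rw [Finset.sum_smul, Finset.sum_filter]
    apply Finset.sum_congr rfl
    intro s _
    rw [projAdd_of_mem n ℳ (monomial_smul_mem n ℳ hy s (coeff s a))]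
  · intro hed
    subst hed
    have hfil : a.support.filter (fun s => Finsupp.weight (wt n) s + e = e) =
        a.support.filter (fun s => s = 0) := by
      apply Finset.filter_congr
      intro s _
      rw [add_eq_right, weight_wt_eq_zero_iff]
    rw [hfil, Finset.filter_eq']
    split_ifs with h0
    · rw [Finset.sum_singleton, constantCoeff_eq]
      rfl
    · rw [Finset.sum_empty, constantCoeff_eq, notMem_support_iff.mp h0, map_zero]

/-- The component trick: if `a • q` lies in the span of homogeneous elements and `q` is homogeneous,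
then already `a₀ • q` does, `a₀` the constant coefficient of `a`. -/
theorem smul_constantCoeff_mem {m : ℕ} (deg : Fin m → (Fin n → ℤ)) (f : Fin m → P)
    (hf : ∀ i, f i ∈ ℳ (deg i)) (d : Fin n → ℤ) (q : P) (hq : q ∈ ℳ d)
    (a : MvPolynomial (Fin n) R)
    (h : a • q ∈ Submodule.span (MvPolynomial (Fin n) R) (Set.range f)) :
    (C (constantCoeff a) : MvPolynomial (Fin n) R) • q ∈
      Submodule.span (MvPolynomial (Fin n) R) (Set.range f) := by
  classical
  obtain ⟨c, hc⟩ := (Submodule.mem_span_range_iff_exists_fun _).mp h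
  obtain ⟨b, hb, hb'⟩ := projAdd_smul n ℳ hq a d
  rw [← hb' rfl, ← hb, ← hc, map_sum]
  apply Submodule.sum_mem
  intro i _
  obtain ⟨b', hb', -⟩ := projAdd_smul n ℳ (hf i) (c i) d
  rw [hb']
  exact Submodule.smul_mem _ _ (Submodule.subset_span ⟨i, rfl⟩)

end Components

end Groth.Agent.Lib.Helper6.GrFree
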