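import Groth.Agent.Lib.Helper6.GrFree.GF1

/-!
# Graded-free equivariant bundles on affine space: the main argument
-/

set_option autoImplicit false
set_option linter.unusedSectionVars false
set_option linter.unusedVariables false
set_option linter.style.haveILetI false
set_option maxHeartbeats 800000

noncomputable section

namespace Groth.Agent.Lib.Helper6.GrFree

open MvPolynomial TensorProduct

universe u v

section LinAlg

lemma coeff_eq_of_linearIndependent {K : Type*} {V : Type*} {ι : Type*} [Field K]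
    [AddCommGroup V] [Module K V] [Fintype ι] [DecidableEq ι] (v : ι → V)
    (hli : LinearIndependent K v) (a : ι → K) (b : K) (i : ι)
    (h : ∑ j, a j • v j = b • v i) : ∀ j, a j = if j = i then b else 0 := by
  intro j
  have h1 : ∑ j, (a j - if j = i then b else 0) • v j = 0 := by
    have h4 : ∀ j ∈ (Finset.univ : Finset ι),
        (a j - if j = i then b else 0) • v j = a j • v j - (if j = i then b • v i else 0) := by
      intro j _
      rw [sub_smul]
      split_ifs with hji
      · rw [hji]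
      · rw [zero_smul]
    rw [Finset.sum_congr rfl h4, Finset.sum_sub_distrib, h, Finset.sum_ite_eq',
      if_pos (Finset.mem_univ i), sub_self]
  have h3 := (Fintype.linearIndependent_iff.mp hli) _ h1 j
  exact sub_eq_zero.mp h3

end LinAlg

section Local

variable {R : Type u} [CommRing R] (n : ℕ)
  {P : Type v} [AddCommGroup P] [Module (MvPolynomial (Fin n) R) P]

/-- elements sent into `N` by a constant outside `p` -/
def nearSub (N : Submodule (MvPolynomial (Fin n) R) P) (p : Ideal R) [hp : p.IsPrime] :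
    Submodule (MvPolynomial (Fin n) R) P where
  carrier := {q | ∃ r : R, r ∉ p ∧ (C r : MvPolynomial (Fin n) R) • q ∈ N}
  add_mem' := by
    rintro x y ⟨r, hr, hx⟩ ⟨s, hs, hy⟩
    refine ⟨r * s, fun h => (hp.mem_or_mem h).elim hr hs, ?_⟩
    rw [smul_add, C_mul]
    refine N.add_mem ?_ ?_
    · rw [mul_comm, mul_smul]
      exact N.smul_mem _ hx
    · rw [mul_smul]
      exact N.smul_mem _ hy
  zero_mem' := ⟨1, (Ideal.ne_top_iff_one p).mp hp.ne_top, by rw [smul_zero]; exact N.zero_mem⟩
  smul_mem' := by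
    rintro a x ⟨r, hr, hx⟩
    exact ⟨r, hr, by rw [smul_comm]; exact N.smul_mem _ hx⟩

lemma mem_nearSub (N : Submodule (MvPolynomial (Fin n) R) P) (p : Ideal R) [hp : p.IsPrime]
    (q : P) : q ∈ nearSub n N p ↔ ∃ r : R, r ∉ p ∧ (C r : MvPolynomial (Fin n) R) • q ∈ N :=
  Iff.rfl

theorem exists_uniform_of_local (N : Submodule (MvPolynomial (Fin n) R) P) (p : Ideal R)
    [hp : p.IsPrime] [Module.Finite (MvPolynomial (Fin n) R) P]
    (h : ∀ q : P, ∃ r : R, r ∉ p ∧ (C r : MvPolynomial (Fin n) R) • q ∈ N) :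
    ∃ r : R, r ∉ p ∧ ∀ q : P, (C r : MvPolynomial (Fin n) R) • q ∈ N := by
  classical
  obtain ⟨s, hs⟩ := (Module.Finite.fg_top : (⊤ : Submodule (MvPolynomial (Fin n) R) P).FG)
  choose r hr hrN using h
  refine ⟨∏ x ∈ s, r x, ?_, ?_⟩
  · intro hmem
    obtain ⟨x, _, hx⟩ := (Ideal.IsPrime.prod_mem_iff).mp hmem
    exact hr x hx
  · intro q
    have hq : q ∈ Submodule.span (MvPolynomial (Fin n) R) (s : Set P) := by
      rw [hs]
      trivial
    induction hq using Submodule.span_induction with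
    | mem x hx =>
      rw [← Finset.mul_prod_erase s r hx, mul_comm, C_mul, mul_smul]
      exact N.smul_mem _ (hrN x)
    | zero =>
      rw [smul_zero]
      exact N.zero_mem
    | add x y _ _ hx hy =>
      rw [smul_add]
      exact N.add_mem hx hy
    | smul a x _ hx =>
      rw [smul_comm]
      exact N.smul_mem _ hx

end Local

section Fiber

variable {R : Type u} [CommRing R] (n : ℕ)
  {P : Type v} [AddCommGroup P] [Module (MvPolynomial (Fin n) R) P] [Module R P]
  [IsScalarTower R (MvPolynomial (Fin n) R) P]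
  (ℳ : (Fin n → ℤ) → Submodule R P) [DirectSum.Decomposition ℳ]

theorem exists_homogeneous_basis_fiber [Module.Finite (MvPolynomial (Fin n) R) P]
    (𝔪 : Ideal (MvPolynomial (Fin n) R)) [𝔪.IsPrime] :
    ∃ (m : ℕ) (deg : Fin m → (Fin n → ℤ)) (f : Fin m → P), (∀ i, f i ∈ ℳ (deg i)) ∧
      LinearIndependent 𝔪.ResidueField
        (fun i => (1 : 𝔪.ResidueField) ⊗ₜ[MvPolynomial (Fin n) R] f i) ∧
      Submodule.span 𝔪.ResidueField
        (Set.range fun i => (1 : 𝔪.ResidueField) ⊗ₜ[MvPolynomial (Fin n) R] f i) = ⊤ := by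
  classical
  let S : Set (𝔪.ResidueField ⊗[MvPolynomial (Fin n) R] P) :=
    {v | ∃ (d : Fin n → ℤ) (q : P), q ∈ ℳ d ∧
      v = (1 : 𝔪.ResidueField) ⊗ₜ[MvPolynomial (Fin n) R] q}
  have hS : Submodule.span 𝔪.ResidueField S = ⊤ := by
    rw [eq_top_iff]
    rintro v -
    induction v using TensorProduct.induction_on with
    | zero => exact Submodule.zero_mem _
    | tmul k q =>
      have h1 : k ⊗ₜ[MvPolynomial (Fin n) R] q =
          k • ((1 : 𝔪.ResidueField) ⊗ₜ[MvPolynomial (Fin n) R] q) := by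
        rw [TensorProduct.smul_tmul', smul_eq_mul, mul_one]
      rw [h1]
      refine Submodule.smul_mem _ _ ?_
      rw [← DirectSum.sum_support_decompose ℳ q, TensorProduct.tmul_sum]
      exact Submodule.sum_mem _ fun d _ =>
        Submodule.subset_span ⟨d, _, SetLike.coe_mem _, rfl⟩
    | add x y hx hy => exact Submodule.add_mem _ hx hy
  obtain ⟨b, hbS, hbspan, hbli⟩ := exists_linearIndependent 𝔪.ResidueField S
  have hfin : b.Finite := hbli.setFinite
  haveI : Fintype b := hfin.fintype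
  let e : b ≃ Fin (Fintype.card b) := Fintype.equivFin b
  have hmem : ∀ i : Fin (Fintype.card b),
      ((e.symm i : b) : 𝔪.ResidueField ⊗[MvPolynomial (Fin n) R] P) ∈ S :=
    fun i => hbS (e.symm i).2
  choose deg f hf hfeq using hmem
  refine ⟨Fintype.card b, deg, f, hf, ?_, ?_⟩
  · have h2 : (fun i => (1 : 𝔪.ResidueField) ⊗ₜ[MvPolynomial (Fin n) R] f i) =
        (fun x : b => (x : 𝔪.ResidueField ⊗[MvPolynomial (Fin n) R] P)) ∘ e.symm := by
      funext i
      exact (hfeq i).symm
    rw [h2]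
    exact hbli.comp _ e.symm.injective
  · have h2 : (Set.range fun i => (1 : 𝔪.ResidueField) ⊗ₜ[MvPolynomial (Fin n) R] f i) = b := by
      ext v
      constructor
      · rintro ⟨i, rfl⟩
        change (1 : 𝔪.ResidueField) ⊗ₜ[MvPolynomial (Fin n) R] f i ∈ b
        rw [← hfeq i]
        exact (e.symm i).2
      · intro hv
        refine ⟨e ⟨v, hv⟩, ?_⟩
        have := hfeq (e ⟨v, hv⟩)
        rw [Equiv.symm_apply_apply] at this
        exact this.symm
    rw [h2, hbspan, hS]

end Fiber

section Main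

variable {R : Type u} [CommRing R] (n : ℕ)
  {P : Type v} [AddCommGroup P] [Module (MvPolynomial (Fin n) R) P] [Module R P]
  [IsScalarTower R (MvPolynomial (Fin n) R) P]
  (ℳ : (Fin n → ℤ) → Submodule R P) [DirectSum.Decomposition ℳ]
  [SetLike.GradedSMul (MvPolynomial.weightedHomogeneousSubmodule R (wt n)) ℳ]

/-- Step A: the homogeneous lifts of a fiber basis generate `P` near `𝔪`. -/
theorem local_generation [Module.Finite (MvPolynomial (Fin n) R) P]
    (𝔪 : Ideal (MvPolynomial (Fin n) R)) [h𝔪 : 𝔪.IsPrime] {m : ℕ} (f : Fin m → P)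
    (hspan : Submodule.span 𝔪.ResidueField
        (Set.range fun i => (1 : 𝔪.ResidueField) ⊗ₜ[MvPolynomial (Fin n) R] f i) = ⊤)
    (q : P) :
    ∃ a : MvPolynomial (Fin n) R, a ∉ 𝔪 ∧
      a • q ∈ Submodule.span (MvPolynomial (Fin n) R) (Set.range f) := by
  classical
  set N : Submodule (MvPolynomial (Fin n) R) P :=
    Submodule.span (MvPolynomial (Fin n) R) (Set.range f) with hN
  have h0 : ∀ v : 𝔪.ResidueField ⊗[MvPolynomial (Fin n) R] P,
      LinearMap.baseChange 𝔪.ResidueField N.mkQ v = 0 := by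
    intro v
    have hv : v ∈ Submodule.span 𝔪.ResidueField
        (Set.range fun i => (1 : 𝔪.ResidueField) ⊗ₜ[MvPolynomial (Fin n) R] f i) := by
      rw [hspan]
      trivial
    induction hv using Submodule.span_induction with
    | mem x hx =>
      obtain ⟨i, rfl⟩ := hx
      rw [LinearMap.baseChange_tmul, Submodule.mkQ_apply,
        (Submodule.Quotient.mk_eq_zero N).mpr (Submodule.subset_span ⟨i, rfl⟩),
        TensorProduct.tmul_zero]
    | zero => exact map_zero _
    | add x y _ _ hx hy => rw [map_add, hx, hy, add_zero]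
    | smul a x _ hx => rw [map_smul, hx, smul_zero]
  have hsub : Subsingleton (𝔪.ResidueField ⊗[MvPolynomial (Fin n) R] (P ⧸ N)) := by
    refine subsingleton_of_forall_eq 0 fun w => ?_
    induction w using TensorProduct.induction_on with
    | zero => rfl
    | tmul k x =>
      obtain ⟨q, rfl⟩ := Submodule.mkQ_surjective N x
      rw [← LinearMap.baseChange_tmul, h0]
    | add x y hx hy => rw [hx, hy, add_zero]
  have hns : (⟨𝔪, h𝔪⟩ : PrimeSpectrum (MvPolynomial (Fin n) R)) ∉
      Module.support (MvPolynomial (Fin n) R) (P ⧸ N) := by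
    rw [Module.mem_support_iff_nontrivial_residueField_tensorProduct]
    exact not_nontrivial_iff_subsingleton.mpr hsub
  rw [Module.notMem_support_iff'] at hns
  obtain ⟨a, ha, haq⟩ := hns (N.mkQ q)
  refine ⟨a, ha, ?_⟩
  rw [← map_smul, Submodule.mkQ_apply, Submodule.Quotient.mk_eq_zero] at haq
  exact haq

theorem main
    [Module.Finite (MvPolynomial (Fin n) R) P] [Module.Projective (MvPolynomial (Fin n) R) P]
    (p : PrimeSpectrum R) :
    ∃ r : R, r ∉ p.asIdeal ∧ ∃ (m : ℕ) (d : Fin m → (Fin n → ℤ)) (f : Fin m → P),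
      (∀ i, f i ∈ ℳ (d i)) ∧
      (∀ q : P, ∃ (N : ℕ) (c : Fin m → MvPolynomial (Fin n) R),
        (MvPolynomial.C r : MvPolynomial (Fin n) R) ^ N • q = ∑ i, c i • f i) ∧
      (∀ c : Fin m → MvPolynomial (Fin n) R, ∑ i, c i • f i = 0 →
        ∃ N : ℕ, ∀ i, (MvPolynomial.C r : MvPolynomial (Fin n) R) ^ N * c i = 0) := by
  classical
  haveI hp : p.asIdeal.IsPrime := p.isPrime
  let 𝔪 : Ideal (MvPolynomial (Fin n) R) :=
    p.asIdeal.comap (constantCoeff : MvPolynomial (Fin n) R →+* R)
  haveI h𝔪 : 𝔪.IsPrime := Ideal.comap_isPrime _ _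
  obtain ⟨m, deg, f, hf, hli, hspan⟩ := exists_homogeneous_basis_fiber n ℳ 𝔪
  set N : Submodule (MvPolynomial (Fin n) R) P :=
    Submodule.span (MvPolynomial (Fin n) R) (Set.range f) with hN
  -- Step B
  have hhom : ∀ (d : Fin n → ℤ) (q : P), q ∈ ℳ d → q ∈ nearSub n N p.asIdeal := by
    intro d q hq
    obtain ⟨a, ha, haq⟩ := local_generation n 𝔪 f hspan q
    exact ⟨constantCoeff a, fun h => ha (Ideal.mem_comap.mpr h),
      smul_constantCoeff_mem n ℳ deg f hf d q hq a haq⟩
  have hall : ∀ q : P, q ∈ nearSub n N p.asIdeal := by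
    intro q
    rw [← DirectSum.sum_support_decompose ℳ q]
    exact Submodule.sum_mem _ fun d _ => hhom d _ (SetLike.coe_mem _)
  obtain ⟨r₁, hr₁, hr₁N⟩ := exists_uniform_of_local n N p.asIdeal
    (fun q => (mem_nearSub n N p.asIdeal q).mp (hall q))
  -- Step C
  let φ : (Fin m → MvPolynomial (Fin n) R) →ₗ[MvPolynomial (Fin n) R] P :=
    Fintype.linearCombination (MvPolynomial (Fin n) R) f
  have hφ : ∀ c, φ c = ∑ i, c i • f i :=
    fun c => Fintype.linearCombination_apply (MvPolynomial (Fin n) R) f c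
  have hφN : ∀ c, φ c ∈ N := by
    intro c
    rw [hφ]
    exact Submodule.sum_mem _ fun i _ =>
      Submodule.smul_mem _ _ (Submodule.subset_span ⟨i, rfl⟩)
  let φ' : (Fin m → MvPolynomial (Fin n) R) →ₗ[MvPolynomial (Fin n) R] N :=
    φ.codRestrict N hφN
  have hφ's : Function.Surjective φ' := by
    rintro ⟨y, hy⟩
    obtain ⟨c, hc⟩ := (Submodule.mem_span_range_iff_exists_fun _).mp hy
    refine ⟨c, Subtype.ext ?_⟩
    rw [LinearMap.codRestrict_apply, hφ, hc]
  let g : P →ₗ[MvPolynomial (Fin n) R] N :=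
    (LinearMap.lsmul (MvPolynomial (Fin n) R) P (C r₁)).codRestrict N hr₁N
  obtain ⟨ψ, hψ⟩ := Module.projective_lifting_property φ' g hφ's
  have hψ' : ∀ q : P, ∑ i, ψ q i • f i = (C r₁ : MvPolynomial (Fin n) R) • q := by
    intro q
    have h1 : ((φ' (ψ q) : N) : P) = ((g q : N) : P) := by
      rw [← LinearMap.comp_apply, hψ]
    rw [← hφ]
    exact h1
  -- Step D
  obtain ⟨M, hMdef⟩ : ∃ M : Matrix (Fin m) (Fin m) (MvPolynomial (Fin n) R),
      ∀ j i, M j i = ψ (f i) j := ⟨fun j i => ψ (f i) j, fun _ _ => rfl⟩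
  have hM : ∀ i, ∑ j, M j i • f j = (C r₁ : MvPolynomial (Fin n) R) • f i := by
    intro i
    rw [← hψ' (f i)]
    apply Finset.sum_congr rfl
    intro j _
    rw [hMdef]
  have hmul : ∀ c : Fin m → MvPolynomial (Fin n) R, ∑ i, c i • f i = 0 → M.mulVec c = 0 := by
    intro c hc
    have h1 : ψ (∑ i, c i • f i) = 0 := by rw [hc, map_zero]
    rw [map_sum] at h1
    funext j
    have h2 := congrFun h1 j
    rw [Finset.sum_apply, Pi.zero_apply] at h2
    rw [Pi.zero_apply, ← h2]
    change ∑ i, M j i * c i = _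
    apply Finset.sum_congr rfl
    intro i _
    rw [map_smul, Pi.smul_apply, smul_eq_mul, mul_comm, hMdef]
  have hdet : ∀ c : Fin m → MvPolynomial (Fin n) R, ∑ i, c i • f i = 0 →
      ∀ i, M.det * c i = 0 := by
    intro c hc i
    have h1 := hmul c hc
    have h2 : (M.adjugate * M).mulVec c = 0 := by
      rw [← Matrix.mulVec_mulVec, h1, Matrix.mulVec_zero]
    rw [Matrix.adjugate_mul, Matrix.smul_mulVec, Matrix.one_mulVec] at h2
    have h3 := congrFun h2 i
    rwa [Pi.smul_apply, smul_eq_mul, Pi.zero_apply] at h3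
  -- Step E
  have hι : ∀ (a : MvPolynomial (Fin n) R) (q : P),
      (1 : 𝔪.ResidueField) ⊗ₜ[MvPolynomial (Fin n) R] (a • q) =
        algebraMap (MvPolynomial (Fin n) R) 𝔪.ResidueField a •
          ((1 : 𝔪.ResidueField) ⊗ₜ[MvPolynomial (Fin n) R] q) := by
    intro a q
    rw [TensorProduct.tmul_smul]
    exact (algebraMap_smul 𝔪.ResidueField a _).symm
  have hπM : ∀ j i, algebraMap (MvPolynomial (Fin n) R) 𝔪.ResidueField (M j i) =
      if j = i then algebraMap (MvPolynomial (Fin n) R) 𝔪.ResidueField (C r₁) else 0 := by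
    intro j i
    have h2 : ∑ j, algebraMap (MvPolynomial (Fin n) R) 𝔪.ResidueField (M j i) •
        ((1 : 𝔪.ResidueField) ⊗ₜ[MvPolynomial (Fin n) R] f j) =
        algebraMap (MvPolynomial (Fin n) R) 𝔪.ResidueField (C r₁) •
          ((1 : 𝔪.ResidueField) ⊗ₜ[MvPolynomial (Fin n) R] f i) := by
      have h3 := congrArg (fun q : P => (1 : 𝔪.ResidueField) ⊗ₜ[MvPolynomial (Fin n) R] q) (hM i)
      simp only [TensorProduct.tmul_sum, hι] at h3
      exact h3
    exact coeff_eq_of_linearIndependent _ hli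
      (fun j => algebraMap (MvPolynomial (Fin n) R) 𝔪.ResidueField (M j i))
      (algebraMap (MvPolynomial (Fin n) R) 𝔪.ResidueField (C r₁)) i h2 j
  have hmap : (algebraMap (MvPolynomial (Fin n) R) 𝔪.ResidueField).mapMatrix M =
      Matrix.diagonal (fun _ => algebraMap (MvPolynomial (Fin n) R) 𝔪.ResidueField (C r₁)) := by
    ext j i
    rw [RingHom.mapMatrix_apply, Matrix.map_apply, hπM, Matrix.diagonal_apply]
  have hπr : algebraMap (MvPolynomial (Fin n) R) 𝔪.ResidueField (C r₁) ≠ 0 := by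
    intro h0
    have h1 : (C r₁ : MvPolynomial (Fin n) R) ∈ 𝔪 :=
      (Ideal.algebraMap_residueField_eq_zero).mp h0
    apply hr₁
    have h2 := Ideal.mem_comap.mp h1
    rwa [constantCoeff_C] at h2
  have hdet𝔪 : M.det ∉ 𝔪 := by
    intro hmem
    have h1 : algebraMap (MvPolynomial (Fin n) R) 𝔪.ResidueField M.det = 0 :=
      Ideal.algebraMap_residueField_eq_zero.mpr hmem
    rw [RingHom.map_det, hmap, Matrix.det_diagonal, Finset.prod_const] at h1
    exact pow_ne_zero _ hπr h1
  have hρ : constantCoeff M.det ∉ p.asIdeal := fun h => hdet𝔪 (Ideal.mem_comap.mpr h)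
  -- Step F
  refine ⟨r₁ * constantCoeff M.det, fun h => (hp.mem_or_mem h).elim hr₁ hρ, m, deg, f, hf, ?_, ?_⟩
  · intro q
    refine ⟨1, fun i => C (constantCoeff M.det) * ψ q i, ?_⟩
    rw [pow_one, C_mul, mul_comm (C r₁) (C (constantCoeff M.det)), mul_smul, ← hψ' q,
      Finset.smul_sum]
    apply Finset.sum_congr rfl
    intro i _
    rw [mul_smul]
  · intro c hc
    refine ⟨(Finset.univ.sup fun i => (c i).totalDegree) + 1, fun i => ?_⟩
    have h1 := pow_constantCoeff_mul_eq_zero M.det (c i) (hdet c hc i)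
    have hle : (c i).totalDegree ≤ Finset.univ.sup fun i => (c i).totalDegree :=
      Finset.le_sup (f := fun i => (c i).totalDegree) (Finset.mem_univ i)
    have h2 : (C (constantCoeff M.det) : MvPolynomial (Fin n) R) ^
        ((Finset.univ.sup fun i => (c i).totalDegree) + 1) * c i = 0 := by
      have h3 : (Finset.univ.sup fun i => (c i).totalDegree) + 1 =
          ((Finset.univ.sup fun i => (c i).totalDegree) - (c i).totalDegree) +
            ((c i).totalDegree + 1) := by omega
      rw [h3, pow_add, mul_assoc, h1, mul_zero]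
    rw [C_mul, mul_pow, mul_assoc, h2, mul_zero]

end Main

end Groth.Agent.Lib.Helper6.GrFree
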